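import Cfsg.Agent.Lib.AbelianSylowTwo.Simple
import Cfsg.Agent.Lib.CoreKilling.SolvableMain
import Cfsg.Agent.Lib.Bender.CoreInCore
import Cfsg.Agent.Lib.Bender.RankOneHalf
import Cfsg.Agent.Lib.Bender.Consumers
import Cfsg.Agent.Lib.Bender.ModuleBound
import Cfsg.Agent.Lib.SuzukiRankOne.Elementary
import Cfsg.Agent.Lib.PSL2.Soluble
import Cfsg.Agent.S0949

/-!
# Abelian Sylow 2-subgroups and soluble involution centralisers (owner: helper38)

* `KleinGWSolvable` : the Klein four case of Gorenstein-Walter with soluble centralisers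
* `solvable_or_psl` : the statement of S3188, modulo `KleinGWSolvable`
-/

set_option autoImplicit false
set_option linter.style.haveILetI false

namespace Cfsg.Agent.AbelianSylowTwo

open Subgroup

universe u

/-- A simple group with Klein four Sylow 2-subgroups and soluble involution centralisers is `PSL(2,q)`. -/
def KleinGWSolvable : Prop :=
  ∀ (G : Type u) [Group G] [Finite G] [IsSimpleGroup G], ¬ IsMulCommutative G →
    ∀ S : Sylow 2 G, IsKleinFour (S : Subgroup G) →
    (∀ t : G, orderOf t = 2 → Group.IsSolvable ↥(centralizer ({t} : Set G))) →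
    ∃ (F : Type) (_ : Field F) (_ : Fintype F),
      ((Fintype.card F % 8 = 3 ∨ Fintype.card F % 8 = 5) ∧ 5 ≤ Fintype.card F) ∧
      Nonempty (G ≃* Matrix.ProjectiveSpecialLinearGroup (Fin 2) F)

variable {G : Type u} [Group G] [Finite G]

theorem centralizer_quotient_solvable {N : Subgroup G} [N.Normal] (hN : Odd (Nat.card N))
    (hC : ∀ t : G, orderOf t = 2 → Group.IsSolvable ↥(centralizer ({t} : Set G)))
    (t : G ⧸ N) (ht : orderOf t = 2) : Group.IsSolvable ↥(centralizer ({t} : Set (G ⧸ N))) := by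
  haveI : Fact (Nat.Prime 2) := ⟨Nat.prime_two⟩
  obtain ⟨u, hu, rfl⟩ := Bender.exists_lift_involution hN ht
  set π := QuotientGroup.mk' N with hπ
  have hle : centralizer ({(u : G ⧸ N)} : Set (G ⧸ N)) ≤ (centralizer ({u} : Set G)).map π := by
    intro y hy
    obtain ⟨x, rfl⟩ := QuotientGroup.mk'_surjective N y
    have hy' : Commute (π x) (π u) := Involution.mem_centralizer_iff_commute.1 hy
    obtain ⟨o, ho, hox⟩ := Constrained.exists_mul_mem_centralizer (p := 2)
      (O := N) (T := zpowers u) (fun h => Nat.not_even_iff_odd.2 hN (even_iff_two_dvd.2 h))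
      (IsPGroup.of_card (n := 1) (by rw [Nat.card_zpowers, hu, pow_one])) (x := x) (fun v hv => by
        obtain ⟨k, rfl⟩ := mem_zpowers_iff.1 hv
        rw [← QuotientGroup.eq_one_iff, ← QuotientGroup.mk'_apply, ← hπ, map_mul, map_mul, map_mul,
          map_inv, map_inv, map_zpow, (hy'.zpow_right k).eq, mul_inv_cancel_right, mul_inv_cancel])
    refine ⟨o * x, ?_, ?_⟩
    · exact Involution.mem_centralizer_iff_commute.2 (mem_centralizer_iff.1 hox u (mem_zpowers u)).symm
    · rw [map_mul, show π o = 1 from (QuotientGroup.eq_one_iff o).2 ho, one_mul]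
  haveI := hC u hu
  haveI : Group.IsSolvable ((centralizer ({u} : Set G)).map π) :=
    Group.isSolvable_of_surjective (π.subgroupMap_surjective _)
  exact Solvable.isSolvable_of_le hle

/-- With trivial cores of the involution centralisers the normaliser of the Sylow 2-subgroup contains
all centralisers of its involutions. -/
theorem centralizer_le_normalizer (S : Sylow 2 G) (hS : IsMulCommutative (S : Subgroup G))
    (hC : ∀ t : G, orderOf t = 2 → Group.IsSolvable ↥(centralizer ({t} : Set G)))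
    (hcores : ∀ t : G, orderOf t = 2 → Cfsg.centralizerPPrimeCore 2 t = ⊥)
    {t : G} (ht : orderOf t = 2) (htS : t ∈ (S : Subgroup G)) :
    centralizer ({t} : Set G) ≤ normalizer ((S : Subgroup G) : Set G) := by
  haveI : Fact (Nat.Prime 2) := ⟨Nat.prime_two⟩
  haveI := hS
  set C := centralizer ({t} : Set G)
  haveI := hC t ht
  have hSC : (S : Subgroup G) ≤ C := fun s hs => mem_centralizer_singleton_iff.2
    (congrArg Subtype.val (hS.is_comm.comm ⟨s, hs⟩ ⟨t, htS⟩))
  have hO : Cfsg.pPrimeCore 2 C = ⊥ :=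
    (map_eq_bot_iff_of_injective _ C.subtype_injective).1 (hcores t ht)
  let T : Sylow 2 C := S.subtype hSC
  have hQT : Cfsg.pCore 2 C ≤ (T : Subgroup C) := Cores.pCore_le_sylow T
  have hTQ : (T : Subgroup C) ≤ Cfsg.pCore 2 C := by
    refine le_trans (fun x hx => mem_centralizer_iff.2 fun q hq => ?_)
      (Solvable.centralizer_pCore_le_of_isSolvable hO)
    exact Subtype.ext (congrArg Subtype.val
      (hS.is_comm.comm ⟨(q : G), hQT hq⟩ ⟨(x : G), hx⟩) : (q : G) * x = x * q)
  haveI : (T : Subgroup C).Normal := le_antisymm hTQ hQT ▸ Cores.pCore_normal 2 C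
  intro g hg
  refine Coprime.mem_normalizer_of_forall fun x hx => ?_
  exact ‹(T : Subgroup C).Normal›.conj_mem (⟨x, hSC hx⟩ : C) hx ⟨g, hg⟩

/-- The normaliser of the Sylow 2-subgroup is then strongly embedded. -/
theorem isStronglyEmbedded_normalizer (S : Sylow 2 G) (hS : IsMulCommutative (S : Subgroup G))
    (h2 : 2 ∣ Nat.card G) (hne : normalizer ((S : Subgroup G) : Set G) ≠ ⊤)
    (hle : ∀ t : G, orderOf t = 2 → t ∈ (S : Subgroup G) →
      centralizer ({t} : Set G) ≤ normalizer ((S : Subgroup G) : Set G)) :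
    Cfsg.IsStronglyEmbedded (normalizer ((S : Subgroup G) : Set G)) := by
  haveI : Fact (Nat.Prime 2) := ⟨Nat.prime_two⟩
  haveI := hS
  set H := normalizer ((S : Subgroup G) : Set G)
  have hSH : (S : Subgroup G) ≤ H := Subgroup.le_normalizer
  haveI hn : ((S : Subgroup G).subgroupOf H).Normal := Subgroup.normal_in_normalizer
  have hmem : ∀ {R : Sylow 2 G}, (R : Subgroup G) ≤ H → R = S := fun {R} hR => by
    have := Sylow.unique_of_normal (S.subtype hSH) hn
    have h1 : R.subtype hR = S.subtype hSH := Subsingleton.elim _ _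
    exact Sylow.subtype_injective h1
  have hinv : ∀ {x : G}, orderOf x = 2 → x ∈ H → x ∈ (S : Subgroup G) := fun {x} hx hxH => by
    obtain ⟨R, hR⟩ := (IsPGroup.of_card (n := 1) (by
      rw [Nat.card_zpowers, Subgroup.orderOf_mk, hx, pow_one]) : IsPGroup 2 (zpowers (⟨x, hxH⟩ : H))).exists_le_sylow
    haveI := Sylow.unique_of_normal (S.subtype hSH) hn
    have h1 : R = S.subtype hSH := Subsingleton.elim _ _
    exact (h1 ▸ hR (mem_zpowers _) : (⟨x, hxH⟩ : H) ∈ (S.subtype hSH : Subgroup H))
  refine Involution.isStronglyEmbedded_iff_forall.2 ⟨hne, ?_, fun g t ht htH hgt => ?_⟩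
  · exact even_iff_two_dvd.2 ((S.dvd_card_of_dvd_card h2).trans (card_dvd_of_le hSH))
  · have htS := hinv ht htH
    have hgS := hinv ((Involution.orderOf_conj g t).trans ht) hgt
    -- `g • S` lies in the centraliser of `g t g⁻¹`
    have hle' : ((g • S : Sylow 2 G) : Subgroup G) ≤ H := fun x hx => by
      rw [Sylow.coe_subgroup_smul, mem_pointwise_smul_iff_inv_smul_mem] at hx
      refine hle _ ((Involution.orderOf_conj g t).trans ht) hgS ?_
      refine Involution.mem_centralizer_iff_commute.2 ?_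
      have hc : Commute (g⁻¹ * x * g) t :=
        congrArg Subtype.val (hS.is_comm.comm ⟨g⁻¹ * x * g, by simpa using hx⟩ ⟨t, htS⟩)
      have := hc.map (MulAut.conj g).toMonoidHom
      simpa [mul_assoc] using this
    exact Sylow.smul_eq_iff_mem_normalizer.1 (hmem hle')

/-- The statement of S3188, modulo the Klein four case. -/
theorem solvable_or_psl (hK : KleinGWSolvable.{u}) (S : Sylow 2 G) (hS : IsMulCommutative (S : Subgroup G))
    (hC : ∀ t : G, orderOf t = 2 → Group.IsSolvable ↥(centralizer ({t} : Set G))) :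
    Group.IsSolvable G ∨
      ∃ (F : Type) (_ : Field F) (_ : Fintype F),
        (((Fintype.card F % 8 = 3 ∨ Fintype.card F % 8 = 5) ∧ 5 ≤ Fintype.card F) ∨
          (∃ n : ℕ, 2 ≤ n ∧ Fintype.card F = 2 ^ n)) ∧
        ∃ N : Subgroup (G ⧸ Cfsg.oddCore G), N.Normal ∧
          Nonempty (↥N ≃* Matrix.ProjectiveSpecialLinearGroup (Fin 2) F) ∧
          centralizer (N : Set (G ⧸ Cfsg.oddCore G)) = ⊥ := by
  haveI : Fact (Nat.Prime 2) := ⟨Nat.prime_two⟩
  haveI : (Cfsg.oddCore G).Normal := Cores.pPrimeCore_normal 2 G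
  set N := Cfsg.oddCore G with hNdef
  have hN : Odd (Nat.card N) := Nat.coprime_two_right.1 (Cores.coprime_card_pPrimeCore (G := G) 2)
  set π := QuotientGroup.mk' N
  have hOb : Cfsg.oddCore (G ⧸ N) = ⊥ := Cores.pPrimeCore_quotient_self 2
  let T : Sylow 2 (G ⧸ N) := S.mapSurjective (QuotientGroup.mk'_surjective N)
  haveI := hS
  have hT : IsMulCommutative (T : Subgroup (G ⧸ N)) := ⟨⟨by
    rintro ⟨_, a, ha, rfl⟩ ⟨_, b, hb, rfl⟩
    refine Subtype.ext ?_
    show π a * π b = π b * π a
    rw [← map_mul, ← map_mul, show a * b = b * a from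
      congrArg Subtype.val (hS.is_comm.comm ⟨a, ha⟩ ⟨b, hb⟩)]⟩⟩
  have hCb := centralizer_quotient_solvable hN hC
  have hsol : Group.IsSolvable (G ⧸ N) → Group.IsSolvable G := fun h => by
    haveI := h
    haveI : Group.IsSolvable N := OddOrderTheorem.solvable hN
    exact Group.isSolvable_of_ker_le_range N.subtype π (by rw [QuotientGroup.ker_mk', range_subtype])
  have hnormal : (T : Subgroup (G ⧸ N)).Normal → Group.IsSolvable G := fun h => by
    haveI := h
    haveI : Group.IsNilpotent (T : Subgroup (G ⧸ N)) := T.isPGroup'.isNilpotent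
    haveI : Group.IsSolvable ((G ⧸ N) ⧸ (T : Subgroup (G ⧸ N))) := OddOrderTheorem.solvable (by
      rw [← index_eq_card]
      exact Nat.not_even_iff_odd.1 fun he => T.not_dvd_index (even_iff_two_dvd.1 he))
    exact hsol (Group.isSolvable_of_ker_le_range (T : Subgroup (G ⧸ N)).subtype
      (QuotientGroup.mk' (T : Subgroup (G ⧸ N))) (by rw [QuotientGroup.ker_mk', range_subtype]))
  by_cases hr : Cfsg.PRankLE 2 2 (T : Subgroup (G ⧸ N))
  · rcases rankLE_two_cases hOb T hT hr with h | h | ⟨m, hm, ⟨e⟩⟩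
    · exact Or.inl (hnormal (h ▸ inferInstance))
    · by_cases hO2 : Cfsg.pCore 2 (G ⧸ N) = ⊥
      · right
        obtain ⟨M, hMn, hsimp, hna, hTM, hcen⟩ := exists_simple_normal hOb hO2 T h
        haveI := hsimp
        let TM : Sylow 2 M := T.subtype hTM
        have hTM4 : IsKleinFour (TM : Subgroup M) := by
          have e := Subgroup.subgroupOfEquivOfLe hTM
          exact ⟨by rw [Sylow.coe_subtype, Nat.card_congr e.toEquiv, h.card_four],
            by rw [Sylow.coe_subtype, Monoid.exponent_eq_of_mulEquiv e, h.exponent_two]⟩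
        have hCM : ∀ t : M, orderOf t = 2 → Group.IsSolvable ↥(centralizer ({t} : Set M)) := fun t ht => by
          haveI := hCb (t : G ⧸ N) (by rw [Subgroup.orderOf_coe, ht])
          refine Group.isSolvable_of_isSolvable_injective (f := (M.subtype.comp (centralizer ({t} : Set M)).subtype).codRestrict
            (centralizer ({(t : G ⧸ N)} : Set (G ⧸ N))) fun x => ?_) ?_
          · exact mem_centralizer_singleton_iff.2 (congrArg Subtype.val (mem_centralizer_singleton_iff.1 x.2))
          · exact fun a b hab => Subtype.ext (Subtype.ext (congrArg (fun z : ↥(centralizer ({(t : G ⧸ N)} : Set (G ⧸ N))) => (z : G ⧸ N)) hab))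
        obtain ⟨F, _, _, hF, he⟩ := hK M hna TM hTM4 hCM
        exact ⟨F, _, _, Or.inl hF, M, hMn, he, hcen⟩
      · left
        haveI : (Cfsg.pCore 2 (G ⧸ N)).Normal := Cores.pCore_normal 2 _
        set Q := Cfsg.pCore 2 (G ⧸ N)
        have hQT : Q ≤ (T : Subgroup (G ⧸ N)) := Cores.pCore_le_sylow T
        by_cases hQe : Q = (T : Subgroup (G ⧸ N))
        · exact hnormal (hQe ▸ inferInstance)
        · have hlt : Nat.card Q < 4 := by
            rw [← h.card_four]
            by_contra hge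
            exact hQe (eq_of_le_of_card_ge hQT (not_lt.1 hge))
          obtain ⟨k, hk⟩ := IsPGroup.iff_card.1 (Cores.isPGroup_pCore 2 (G ⧸ N))
          have hQ2 : Nat.card Q = 2 := by
            rcases k with _ | _ | k
            · exact absurd (Subgroup.card_eq_one.1 (by rw [hk, pow_zero])) hO2
            · rw [hk, pow_one]
            · rw [hk, pow_add] at hlt
              have := Nat.one_le_pow k 2 two_pos
              omega
          obtain ⟨t, ht, ht1⟩ := (Q.ne_bot_iff_exists_ne_one).1 hO2 |>.elim fun t ht =>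
            (⟨(t : G ⧸ N), t.2, fun e => ht (Subtype.ext e)⟩ : ∃ t, t ∈ Q ∧ t ≠ 1)
          have hord : orderOf t = 2 := orderOf_eq_prime (by
            have := pow_card_eq_one' (x := (⟨t, ht⟩ : Q))
            rw [hQ2] at this
            exact congrArg Subtype.val this) ht1
          have htop : centralizer ({t} : Set (G ⧸ N)) = ⊤ := eq_top_iff.2 fun g _ => by
            refine mem_centralizer_singleton_iff.2 ?_
            have h1 : g * t * g⁻¹ ∈ Q := ‹Q.Normal›.conj_mem t ht g
            obtain ⟨q, hq⟩ : ∃ q : Q, ∀ y : Q, y ≠ 1 → y = q := by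
              obtain ⟨q, -, hq⟩ := (Nat.card_eq_two_iff' (1 : Q)).1 hQ2
              exact ⟨q, hq⟩
            have h2 : (⟨g * t * g⁻¹, h1⟩ : Q) = ⟨t, ht⟩ := by
              rw [hq ⟨t, ht⟩ (fun e => ht1 (congrArg Subtype.val e)), hq ⟨g * t * g⁻¹, h1⟩]
              intro e
              have : g * t * g⁻¹ = 1 := congrArg Subtype.val e
              exact ht1 (conj_eq_one_iff.1 this)
            exact mul_inv_eq_iff_eq_mul.1 (congrArg Subtype.val h2)
          haveI := hCb t hord
          rw [htop] at this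
          exact hsol (Group.isSolvable_of_surjective (f := (Subgroup.topEquiv : (⊤ : Subgroup (G ⧸ N)) ≃* (G ⧸ N)).toMonoidHom)
            (Subgroup.topEquiv : (⊤ : Subgroup (G ⧸ N)) ≃* (G ⧸ N)).surjective)
    · obtain ⟨hn, -, -⟩ := S0949.result T m hm e
        fun K hK hKodd => le_bot_iff.1 (hOb ▸ Cores.le_pPrimeCore hK (Nat.coprime_two_right.2 hKodd))
      exact Or.inl (hnormal hn)
  -- rank at least three
  haveI := hT
  have hcores : ∀ t : G ⧸ N, orderOf t = 2 → Cfsg.centralizerPPrimeCore 2 t = ⊥ :=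
    CoreKilling.core_eq_bot_of_solvable (fun H hH => Bender.oddCore_le Bender.rankOneHalf hH) hOb T
      (T : Subgroup (G ⧸ N)) le_rfl (by rw [subgroupOf_self]; infer_instance) hT hr hCb
  by_cases htop : normalizer ((T : Subgroup (G ⧸ N)) : Set (G ⧸ N)) = ⊤
  · exact Or.inl (hnormal (normalizer_eq_top_iff.1 htop))
  right
  obtain ⟨A, hA, hsq, hcard⟩ : Cfsg.PRankAtLeast 2 3 (T : Subgroup (G ⧸ N)) := by
    rw [Cfsg.PRankLE] at hr
    push Not at hr
    obtain ⟨A, h1, h2, h3⟩ := hr
    obtain ⟨k, hk⟩ := IsPGroup.iff_card.1 (T.isPGroup'.to_subgroup A)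
    refine ⟨A, h1, h2, ?_⟩
    rw [hk] at h3 ⊢
    exact Nat.pow_le_pow_right two_pos ((Nat.pow_lt_pow_iff_right one_lt_two).1 h3)
  have h2d : 2 ∣ Nat.card (G ⧸ N) := by
    obtain ⟨k, hk⟩ := IsPGroup.iff_card.1 (T.isPGroup'.to_subgroup A)
    refine dvd_trans ?_ ((card_subgroup_dvd_card A).trans (card_subgroup_dvd_card _))
    rw [hk] at hcard ⊢
    exact dvd_pow_self 2 (by have := (Nat.pow_le_pow_iff_right one_lt_two).1 hcard; omega)
  have hSE := isStronglyEmbedded_normalizer T hT h2d htop fun t ht htT =>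
    centralizer_le_normalizer T hT hCb hcores ht htT
  have hrk : Cfsg.PRankAtLeast 2 2 (G ⧸ N) := by
    refine ⟨A.map (T : Subgroup (G ⧸ N)).subtype, ⟨⟨?_⟩⟩, ?_, ?_⟩
    · rintro ⟨_, a, ha, rfl⟩ ⟨_, b, hb, rfl⟩
      exact Subtype.ext (congrArg Subtype.val (hT.is_comm.comm a b) : (a : G ⧸ N) * b = b * a)
    · rintro _ ⟨a, ha, rfl⟩
      exact congrArg Subtype.val (hsq a ha)
    · rw [card_map_of_injective (T : Subgroup (G ⧸ N)).subtype_injective]
      exact le_trans (by norm_num) hcard
  have h2 := Bender.twoInvolutions_of_rank hrk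
  set H := normalizer ((T : Subgroup (G ⧸ N)) : Set (G ⧸ N))
  have hcore : H.normalCore = ⊥ := (Bender.core_eq_of_two_involutions hSE h2).trans hOb
  obtain ⟨t, Q, hset⟩ := Bender.rankOneHalf (G ⧸ N) H hSE hcore h2
  haveI := Bender.faithful_of_normalCore hcore
  obtain ⟨hQ2, ⟨R, hR⟩, -⟩ := Bender.sylow_normal hset h2
  have hQc : IsMulCommutative Q := by
    rw [← hR]
    exact ⟨⟨fun a b => (T.equiv R).symm.injective (by rw [map_mul, map_mul]; exact hT.is_comm.comm _ _)⟩⟩
  obtain ⟨L, hLn, hLodd, F, _, _, ⟨n, hn, hF⟩, ⟨e⟩⟩ :=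
    SuzukiRankOne.elementary_case hset h2 ((SuzukiRankOne.kernelShape _ _ _ _ _ hset h2).2 hQc)
  refine ⟨F, _, _, Or.inr ⟨n, hn, hF⟩, L, hLn, ⟨e⟩, ?_⟩
  haveI := hLn
  have h4 : 4 ≤ Nat.card F := by
    rw [Nat.card_eq_fintype_card, hF]
    exact (show 4 = 2 ^ 2 from rfl) ▸ Nat.pow_le_pow_right two_pos hn
  haveI := PSL2.isSimpleGroup_psl (L := F) h4
  haveI hLs : IsSimpleGroup L := e.isSimpleGroup_congr.2 inferInstance
  set C := centralizer (L : Set (G ⧸ N))
  haveI : C.Normal := inferInstance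
  have hCL : C ⊓ L = ⊥ := by
    rw [eq_bot_iff]
    intro x hx
    have hxZ : (⟨x, hx.2⟩ : L) ∈ center L := mem_center_iff.2 fun y => Subtype.ext (hx.1 y y.2)
    rcases (inferInstance : (center L).Normal).eq_bot_or_eq_top with h | h
    · rw [h, mem_bot] at hxZ
      exact mem_bot.2 (congrArg Subtype.val hxZ)
    · refine absurd (fun a b => e.symm.injective ?_) (PSL2.not_comm_psl (L := F) (by omega))
      rw [map_mul, map_mul]
      exact mem_center_iff.1 (h ▸ mem_top _ : e.symm b ∈ center L) _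
  refine le_bot_iff.1 (hOb ▸ Cores.le_pPrimeCore inferInstance (Nat.coprime_two_right.2 (hLodd.of_dvd_nat ?_)))
  have hinj : Function.Injective ((QuotientGroup.mk' L).comp C.subtype) := by
    refine (MonoidHom.ker_eq_bot_iff _).1 (eq_bot_iff.2 fun x hx => ?_)
    have : (x : G ⧸ N) ∈ C ⊓ L := ⟨x.2, (QuotientGroup.eq_one_iff _).1 hx⟩
    rw [hCL, mem_bot] at this
    exact Subtype.ext this
  rw [index_eq_card]
  exact card_dvd_of_injective _ hinj

end Cfsg.Agent.AbelianSylowTwo
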