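import Cfsg.Agent.Lib.FusionMetaTwo.Radical
import Cfsg.Agent.Lib.Cores.Basic
import Cfsg.Agent.Lib.Transfer.NilpotentHall
import Cfsg.Agent.Lib.OddOrderTheorem.Basic
import Cfsg.Prelude.Def_CaseTheorems
import Mathlib.GroupTheory.FiniteAbelian.Basic

/-!
# Abelian Sylow 2-subgroups of rank at most two (owner: helper38)

* `rankLE_two_cases` : with `O(G) = 1` the group is a 2-group or the Sylow 2-subgroup is homocyclic
-/

set_option autoImplicit false
set_option linter.style.haveILetI false

namespace Cfsg.Agent.AbelianSylowTwo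

open Subgroup

universe u

/-- An abelian 2-group of rank at most two is metacyclic. -/
theorem isMetacyclic_of_rankLE_two {A : Type u} [CommGroup A] [Finite A] (hA : IsPGroup 2 A)
    (hr : Cfsg.PRankLE 2 2 A) : Cfsg.IsMetacyclic A := by
  classical
  obtain ⟨ι, hι, n, hn, ⟨e⟩⟩ := CommGroup.equiv_prod_multiplicative_zmod_of_finite A
  haveI : ∀ i, NeZero (n i) := fun i => ⟨by have := hn i; omega⟩
  let g : ι → A := fun i => e.symm (Pi.mulSingle i (Multiplicative.ofAdd (1 : ZMod (n i))))
  have hgen : closure (Set.range g) = ⊤ := by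
    refine eq_top_iff.2 fun a _ => ?_
    rw [← e.symm_apply_apply a, ← Finset.univ_prod_mulSingle (e a), map_prod]
    refine prod_mem fun i _ => ?_
    have h2 : e a i = Multiplicative.ofAdd (1 : ZMod (n i)) ^ ((e a i).toAdd).val := by
      rw [← ofAdd_nsmul, nsmul_one, ZMod.natCast_zmod_val, ofAdd_toAdd]
    rw [h2, Pi.mulSingle_pow, map_pow]
    exact pow_mem (subset_closure (Set.mem_range_self i)) _
  have hcard : Fintype.card ι ≤ 2 := by
    have heven : ∀ i, ∃ m, n i = 2 * m := fun i => by
      have h1 : orderOf (g i) = n i := by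
        rw [MulEquiv.orderOf_eq, ← MonoidHom.mulSingle_apply,
          orderOf_injective (MonoidHom.mulSingle (fun j => Multiplicative (ZMod (n j))) i)
            (Pi.mulSingle_injective (M := fun j => Multiplicative (ZMod (n j))) i), orderOf_ofAdd_eq_addOrderOf, ZMod.addOrderOf_one]
      obtain ⟨k, hk⟩ := IsPGroup.iff_orderOf.1 hA (g i)
      rw [h1] at hk
      rcases k with _ | k
      · have := hn i; rw [hk, pow_zero] at this; omega
      · exact ⟨2 ^ k, by rw [hk, pow_succ']⟩
    choose m hm using heven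
    have hm0 : ∀ i, Multiplicative.ofAdd ((m i : ℕ) : ZMod (n i)) ≠ 1 := fun i h => by
      have h1 : ((m i : ℕ) : ZMod (n i)) = 0 := h
      rw [ZMod.natCast_eq_zero_iff] at h1
      have h2 := hn i; have h3 := hm i
      have := Nat.le_of_dvd (by omega) h1
      omega
    have hm2 : ∀ i, Multiplicative.ofAdd ((m i : ℕ) : ZMod (n i)) ^ 2 = 1 := fun i => by
      rw [← ofAdd_nsmul, two_nsmul, ← Nat.cast_add, ← two_mul, ← hm i, ZMod.natCast_self, ofAdd_zero]
    let Ω : Subgroup A :=
      { carrier := {a | a ^ 2 = 1}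
        one_mem' := one_pow 2
        mul_mem' := fun {a b} ha hb => by
          show (a * b) ^ 2 = 1
          rw [mul_pow, ha, hb, one_mul]
        inv_mem' := fun {a} ha => by
          show a⁻¹ ^ 2 = 1
          rw [inv_pow, ha, inv_one] }
    have hΩ := hr Ω ⟨⟨fun a b => Subtype.ext (mul_comm (a : A) b)⟩⟩ fun a ha => ha
    let f : (ι → Bool) → Ω := fun v => ⟨e.symm fun i =>
      if v i then Multiplicative.ofAdd ((m i : ℕ) : ZMod (n i)) else 1, by
        show (_ : A) ^ 2 = 1
        rw [← map_pow, MulEquiv.map_eq_one_iff]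
        funext i
        by_cases hv : v i = true <;> simp [hv, hm2]⟩
    have hf : Function.Injective f := by
      intro v w h
      funext i
      have h1 := congrFun (e.symm.injective (congrArg Subtype.val h)) i
      have := hm0 i
      rcases hv : v i <;> rcases hw : w i <;> simp_all
    have := (Nat.card_le_card_of_injective f hf).trans hΩ
    rw [Nat.card_eq_fintype_card, Fintype.card_pi, Finset.prod_const, Fintype.card_bool,
      Finset.card_univ] at this
    exact (Nat.pow_le_pow_iff_right one_lt_two).1 this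
  obtain ⟨a, b, hab⟩ : ∃ a b : A, closure ({a, b} : Set A) = ⊤ := by
    have hsub : ∃ a b : A, Set.range g ⊆ {a, b} := by
      rcases Nat.lt_or_ge (Fintype.card ι) 1 with h | h
      · haveI : IsEmpty ι := Fintype.card_eq_zero_iff.1 (by omega)
        exact ⟨1, 1, by rintro x ⟨i, rfl⟩; exact isEmptyElim i⟩
      obtain ⟨i⟩ : Nonempty ι := Fintype.card_pos_iff.1 h
      by_cases h1 : ∃ j, j ≠ i
      · obtain ⟨j, hj⟩ := h1
        refine ⟨g i, g j, ?_⟩
        rintro x ⟨k, rfl⟩
        have hk : k = i ∨ k = j := by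
          by_contra hk
          push Not at hk
          have h3 : ({i, j, k} : Finset ι).card = 3 := Finset.card_eq_three.2
            ⟨i, j, k, hj.symm, hk.1.symm, hk.2.symm, rfl⟩
          have := Finset.card_le_univ ({i, j, k} : Finset ι)
          omega
        rcases hk with rfl | rfl <;> simp
      · push Not at h1
        refine ⟨g i, g i, ?_⟩
        rintro x ⟨k, rfl⟩
        rw [h1 k]
        simp
    obtain ⟨a, b, hs⟩ := hsub
    exact ⟨a, b, top_le_iff.1 (hgen ▸ closure_mono hs)⟩
  refine ⟨zpowers a, inferInstance, inferInstance, ?_⟩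
  refine isCyclic_iff_exists_zpowers_eq_top.2 ⟨QuotientGroup.mk' (zpowers a) b, ?_⟩
  have h := congrArg (Subgroup.map (QuotientGroup.mk' (zpowers a))) hab
  rw [MonoidHom.map_closure, Set.image_pair, map_top_of_surjective _ (QuotientGroup.mk'_surjective _),
    show QuotientGroup.mk' (zpowers a) a = 1 from (QuotientGroup.eq_one_iff a).2 (mem_zpowers a),
    Subgroup.closure_insert_one, ← zpowers_eq_closure] at h
  exact h

/-- No abelian group is on the short list, apart from the four-group. -/
theorem homocyclic_of_maxClassTwo {A : Type u} [CommGroup A] (h : FusionMetaTwo.MaxClassTwo A) :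
    Nat.card A = 4 ∧ ∀ a : A, a ^ 2 = 1 := by
  rcases h with ⟨n, hn, ⟨e⟩⟩ | ⟨n, hn, -, x, y, hx, -, hrel⟩ | ⟨n, hn, ⟨e⟩⟩
  · haveI : NeZero n := ⟨by omega⟩
    have hn2 : n = 2 := by
      have h1 : DihedralGroup.r (1 : ZMod n) * DihedralGroup.sr 0 =
          DihedralGroup.sr 0 * DihedralGroup.r 1 := e.symm.injective (by
        rw [map_mul, map_mul, mul_comm])
      rw [DihedralGroup.r_mul_sr, DihedralGroup.sr_mul_r, zero_sub, zero_add] at h1
      have h2 : (-1 : ZMod n) = 1 := DihedralGroup.sr.inj h1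
      have h3 : ((2 : ℕ) : ZMod n) = 0 := by
        push_cast
        linear_combination -h2
      rw [ZMod.natCast_eq_zero_iff] at h3
      have := Nat.le_of_dvd two_pos h3
      omega
    subst hn2
    refine ⟨by rw [Nat.card_congr e.toEquiv, Nat.card_eq_fintype_card, DihedralGroup.card], fun a => ?_⟩
    apply e.injective
    rw [map_pow, map_one]
    generalize e a = d
    revert d
    decide
  · exfalso
    rw [mul_comm y x, mul_inv_cancel_right] at hrel
    obtain ⟨k, rfl⟩ : ∃ k, n = k + 3 := ⟨n - 3, by omega⟩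
    have h4 : 4 ≤ 2 ^ (k + 3 - 1) := by
      calc 4 = 2 ^ 2 := rfl
        _ ≤ 2 ^ (k + 3 - 1) := Nat.pow_le_pow_right two_pos (by omega)
    have h5 : 2 ^ (k + 3 - 1) < 2 ^ (k + 3) := Nat.pow_lt_pow_right one_lt_two (by omega)
    have h6 : x ^ 1 = x ^ (2 ^ (k + 3 - 1) - 1) := by rw [pow_one]; exact hrel
    have := pow_injOn_Iio_orderOf (x := x) (Set.mem_Iio.2 (by rw [hx]; omega))
      (Set.mem_Iio.2 (by rw [hx]; omega)) h6
    omega
  · exfalso
    haveI : NeZero n := ⟨by omega⟩
    have h1 : QuaternionGroup.a (1 : ZMod (2 * n)) * QuaternionGroup.xa 0 =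
        QuaternionGroup.xa 0 * QuaternionGroup.a 1 := e.symm.injective (by
      rw [map_mul, map_mul, mul_comm])
    rw [QuaternionGroup.a_mul_xa, QuaternionGroup.xa_mul_a, zero_sub, zero_add] at h1
    have h2 : (-1 : ZMod (2 * n)) = 1 := QuaternionGroup.xa.inj h1
    have h3 : ((2 : ℕ) : ZMod (2 * n)) = 0 := by
      push_cast
      linear_combination -h2
    rw [ZMod.natCast_eq_zero_iff] at h3
    have := Nat.le_of_dvd two_pos h3
    omega

variable {G : Type u} [Group G] [Finite G]

/-- With `O(G) = 1` an abelian Sylow 2-subgroup of rank at most two is the whole group or homocyclic. -/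
theorem rankLE_two_cases (hO : Cfsg.oddCore G = ⊥) (S : Sylow 2 G)
    (hS : IsMulCommutative (S : Subgroup G)) (hr : Cfsg.PRankLE 2 2 (S : Subgroup G)) :
    (S : Subgroup G) = ⊤ ∨ IsKleinFour (S : Subgroup G) ∨
      ∃ m : ℕ, 2 ≤ m ∧ Nonempty ((S : Subgroup G) ≃* Multiplicative (ZMod (2 ^ m) × ZMod (2 ^ m))) := by
  haveI : Fact (Nat.Prime 2) := ⟨Nat.prime_two⟩
  letI : CommGroup (S : Subgroup G) := { (inferInstance : Group (S : Subgroup G)) with mul_comm := hS.is_comm.comm }
  have hm := isMetacyclic_of_rankLE_two S.isPGroup' hr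
  by_cases hh : ∃ n : ℕ, 0 < n ∧ Nonempty ((S : Subgroup G) ≃*
      Multiplicative (ZMod (2 ^ n)) × Multiplicative (ZMod (2 ^ n)))
  · obtain ⟨n, hn, ⟨e⟩⟩ := hh
    rcases Nat.lt_or_ge n 2 with h | h
    · obtain rfl : n = 1 := by omega
      refine Or.inr (Or.inl ⟨?_, ?_⟩)
      · rw [Nat.card_congr e.toEquiv, Nat.card_prod]
        simp [Nat.card_eq_fintype_card]
      · rw [Monoid.exponent_eq_of_mulEquiv e, Monoid.exponent_prod]
        simp [Monoid.exponent_multiplicative]
    · exact Or.inr (Or.inr ⟨n, h, ⟨e.trans (MulEquiv.prodMultiplicative _ _).symm⟩⟩)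
  by_cases hx : FusionMetaTwo.MaxClassTwo (S : Subgroup G)
  · obtain ⟨h4, hsq⟩ := homocyclic_of_maxClassTwo hx
    refine Or.inr (Or.inl ⟨h4, ?_⟩)
    refine ((Nat.dvd_prime Nat.prime_two).1 (Monoid.exponent_dvd_of_forall_pow_eq_one hsq)).resolve_left
      fun h1 => ?_
    haveI := Monoid.exp_eq_one_iff.1 h1
    rw [Nat.card_unique] at h4
    omega
  left
  have hA := FusionMetaTwo.aut_isPGroup_two S.isPGroup' hm hh hx
  have hNC : normalizer ((S : Subgroup G) : Set G) ≤ centralizer ((S : Subgroup G) : Set G) := by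
    intro g hg
    set f := (S : Subgroup G).normalizerMonoidHom
    haveI : IsMulCommutative (S : Subgroup G) := hS
    have hle : (S : Subgroup G) ≤ centralizer ((S : Subgroup G) : Set G) := le_centralizer _
    obtain ⟨k, hk⟩ := IsPGroup.iff_orderOf.1 hA (f ⟨g, hg⟩)
    have h1 : orderOf (f ⟨g, hg⟩) ∣ Nat.card f.range :=
      (Subgroup.orderOf_dvd_natCard _ (MonoidHom.mem_range.2 ⟨_, rfl⟩))
    have h2 : Nat.card f.range ∣ (S : Subgroup G).index := by
      rw [← Subgroup.index_ker, Subgroup.normalizerMonoidHom_ker, ← Subgroup.relIndex]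
      refine (relIndex_dvd_of_le_left _ hle).trans ?_
      exact relIndex_dvd_index_of_le Subgroup.le_normalizer
    rcases k with _ | k
    · rw [pow_zero, orderOf_eq_one_iff] at hk
      have h4 : (⟨g, hg⟩ : normalizer ((S : Subgroup G) : Set G)) ∈ f.ker := hk
      rw [Subgroup.normalizerMonoidHom_ker] at h4
      exact h4
    · refine absurd ((dvd_trans ?_ (h1.trans h2))) S.not_dvd_index
      rw [hk]
      exact dvd_pow_self 2 (Nat.succ_ne_zero k)
  obtain ⟨N, hN, hc⟩ := Transfer.exists_normal_complement_of_normalizer_le_centralizer _ S.card_coprime_index hNC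
  have hbot : N = ⊥ := le_bot_iff.1 (hO ▸ Cores.le_pPrimeCore hN (by
    rw [← hc.index_eq_card, Nat.coprime_comm, Nat.prime_two.coprime_iff_not_dvd]
    exact S.not_dvd_index))
  rw [hbot, Subgroup.isComplement'_bot_left] at hc
  exact hc

end Cfsg.Agent.AbelianSylowTwo
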