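import Cfsg.Agent.Lib.AbelianSylowTwo.RankTwo
import Cfsg.Agent.Lib.Solvable.Basic

/-!
# Klein four Sylow 2-subgroups with both cores trivial (owner: helper38)

* `exists_simple_normal` : a minimal normal subgroup is simple, contains the Sylow 2-subgroup and is
  its own double centraliser
-/

set_option autoImplicit false
set_option linter.style.haveILetI false

namespace Cfsg.Agent.AbelianSylowTwo

open Subgroup

universe u

variable {G : Type u} [Group G] [Finite G]

theorem even_of_normal_ne_bot (hO : Cfsg.oddCore G = ⊥) {K : Subgroup G} (hK : K.Normal) (h : K ≠ ⊥) :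
    2 ∣ Nat.card K := by
  by_contra hd
  exact h (le_bot_iff.1 (hO ▸ Cores.le_pPrimeCore hK
    (Nat.coprime_comm.1 (Nat.prime_two.coprime_iff_not_dvd.2 hd))))

theorem cores_of_normal (hO : Cfsg.oddCore G = ⊥) (hO2 : Cfsg.pCore 2 G = ⊥) (M : Subgroup G) [M.Normal] :
    Cfsg.oddCore M = ⊥ ∧ Cfsg.pCore 2 M = ⊥ := by
  constructor <;> refine (map_eq_bot_iff_of_injective _ M.subtype_injective).1 ?_
  · rw [Cores.pPrimeCore_map_subtype, show Cfsg.pPrimeCore 2 G = ⊥ from hO, bot_inf_eq]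
  · rw [Cores.pCore_map_subtype, hO2, bot_inf_eq]

/-- Sylow 2-subgroups of order two are excluded by trivial cores. -/
theorem four_dvd_card (hO : Cfsg.oddCore G = ⊥) (hO2 : Cfsg.pCore 2 G = ⊥) (h : 2 ∣ Nat.card G) :
    4 ∣ Nat.card G := by
  haveI : Fact (Nat.Prime 2) := ⟨Nat.prime_two⟩
  by_contra h4
  obtain ⟨S⟩ : Nonempty (Sylow 2 G) := inferInstance
  have hS2 : Nat.card (S : Subgroup G) = 2 := by
    obtain ⟨k, hk⟩ := IsPGroup.iff_card.1 S.isPGroup'
    have h2 : 2 ∣ Nat.card (S : Subgroup G) := S.dvd_card_of_dvd_card h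
    rw [hk] at h2 ⊢
    rcases k with _ | _ | k
    · norm_num at h2
    · norm_num
    · refine absurd (dvd_trans ?_ (hk ▸ card_subgroup_dvd_card _)) h4
      exact ⟨2 ^ k, by ring⟩
  haveI : IsCyclic (S : Subgroup G) := isCyclic_of_prime_card hS2
  letI : CommGroup (S : Subgroup G) := IsCyclic.commGroup
  rcases rankLE_two_cases hO S ⟨⟨mul_comm⟩⟩ (fun A _ _ =>
      (Nat.le_of_dvd Nat.card_pos (card_subgroup_dvd_card A)).trans (by rw [hS2]; norm_num)) with
    hS | hS | ⟨m, hm, ⟨e⟩⟩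
  · have := (Cores.pCore_eq_top_iff (G := G) (p := 2)).2
      ((hS ▸ S.isPGroup').of_equiv Subgroup.topEquiv)
    rw [hO2] at this
    have hbot : (S : Subgroup G) = ⊥ := by rw [hS, this]
    rw [hbot, Subgroup.card_bot] at hS2
    omega
  · have := hS.card_four
    omega
  · rw [Nat.card_congr e.toEquiv, Nat.card_congr Multiplicative.toAdd, Nat.card_prod, Nat.card_zmod] at hS2
    have : 4 ≤ 2 ^ m := (show 4 = 2 ^ 2 from rfl) ▸ Nat.pow_le_pow_right two_pos hm
    nlinarith

theorem exists_simple_normal (hO : Cfsg.oddCore G = ⊥) (hO2 : Cfsg.pCore 2 G = ⊥) (S : Sylow 2 G)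
    (hS : IsKleinFour (S : Subgroup G)) :
    ∃ (M : Subgroup G) (_ : M.Normal), IsSimpleGroup M ∧ ¬ IsMulCommutative M ∧
      (S : Subgroup G) ≤ M ∧ centralizer (M : Set G) = ⊥ := by
  haveI : Fact (Nat.Prime 2) := ⟨Nat.prime_two⟩
  have h8 : ¬ 8 ∣ Nat.card G := fun h => by
    have h1 := S.pow_dvd_card_of_pow_dvd_card (n := 3) h
    rw [hS.card_four] at h1
    norm_num at h1
  haveI : Nontrivial G := by
    refine Finite.one_lt_card_iff_nontrivial.1 ?_
    have := Nat.le_of_dvd Nat.card_pos (hS.card_four ▸ card_subgroup_dvd_card (S : Subgroup G))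
    omega
  obtain ⟨M, hMn, hM0, -, hmin⟩ := Solvable.exists_minimal_normal (N := (⊤ : Subgroup G)) top_ne_bot
  haveI := hMn
  obtain ⟨hOM, hO2M⟩ := cores_of_normal hO hO2 M
  have hM2 : 2 ∣ Nat.card M := even_of_normal_ne_bot hO hMn hM0
  have hna : ¬ IsMulCommutative M := fun hc => by
    obtain ⟨P⟩ : Nonempty (Sylow 2 M) := inferInstance
    haveI := hc
    have hP : (P : Subgroup M) = ⊥ :=
      le_bot_iff.1 (hO2M ▸ Cores.le_pCore inferInstance P.isPGroup')
    have := P.dvd_card_of_dvd_card hM2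
    rw [hP, Subgroup.card_bot] at this
    norm_num at this
  haveI : Nontrivial M := (nontrivial_iff_ne_bot M).2 hM0
  have hsimp : IsSimpleGroup M := by
    refine ⟨fun K hK => or_iff_not_imp_left.2 fun hK0 => ?_⟩
    haveI := hK
    obtain ⟨K₀, hK₀n, hK₀0, hK₀K, hK₀min⟩ := Solvable.exists_minimal_normal hK0
    haveI := hK₀n
    by_cases hinv : (K₀.map M.subtype).Normal
    · rcases hmin _ hinv (map_subtype_le K₀) with h | h
      · exact absurd ((map_eq_bot_iff_of_injective _ M.subtype_injective).1 h) hK₀0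
      · refine eq_top_iff.2 fun x _ => hK₀K ?_
        obtain ⟨y, hy, e⟩ := h.ge x.2
        exact M.subtype_injective e ▸ hy
    exfalso
    obtain ⟨g, hg⟩ : ∃ g : G, ¬ ∀ x ∈ K₀, MulAut.conjNormal g x ∈ K₀ := by
      by_contra hcon
      push Not at hcon
      refine hinv ⟨?_⟩
      rintro _ ⟨y, hy, rfl⟩ g
      exact ⟨_, hcon g y hy, MulAut.conjNormal_apply g y⟩
    set K₁ := K₀.map (MulAut.conjNormal g : M ≃* M).toMonoidHom
    haveI hK₁n : K₁.Normal := hK₀n.map _ (MulAut.conjNormal g : M ≃* M).surjective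
    have hK₁0 : K₁ ≠ ⊥ := fun h =>
      hK₀0 ((map_eq_bot_iff_of_injective _ (MulAut.conjNormal g : M ≃* M).injective).1 h)
    have hdisj : K₁ ⊓ K₀ = ⊥ := by
      refine (hK₀min _ (inferInstance) inf_le_right).resolve_right fun h => ?_
      have hle : K₀ ≤ K₁ := inf_eq_right.1 h
      have hcard : Nat.card K₁ = Nat.card K₀ :=
        card_map_of_injective (MulAut.conjNormal g : M ≃* M).injective
      have heq := eq_of_le_of_card_ge hle hcard.le
      exact hg fun x hx => heq ▸ mem_map_of_mem _ hx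
    have h2K : ∀ K : Subgroup M, K.Normal → K ≠ ⊥ → 2 ∣ Nat.card K := fun K h1 h2 =>
      even_of_normal_ne_bot hOM h1 h2
    have h4K : 4 ∣ Nat.card K₀ := by
      obtain ⟨h1, h2⟩ := cores_of_normal hOM hO2M K₀
      exact four_dvd_card h1 h2 (h2K _ hK₀n hK₀0)
    have hdvd : Nat.card K₀ * Nat.card K₁ ∣ Nat.card M := by
      rw [← K₀.card_mul_index]
      refine mul_dvd_mul_left _ ?_
      rw [index_eq_card]
      have hinj : Function.Injective ((QuotientGroup.mk' K₀).comp K₁.subtype) := by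
        refine (MonoidHom.ker_eq_bot_iff _).1 (eq_bot_iff.2 fun x hx => ?_)
        have : (x : M) ∈ K₁ ⊓ K₀ := ⟨x.2, (QuotientGroup.eq_one_iff _).1 hx⟩
        rw [hdisj] at this
        exact Subtype.ext (mem_bot.1 this)
      exact card_dvd_of_injective _ hinj
    exact h8 ((mul_dvd_mul h4K (h2K _ hK₁n hK₁0)).trans (hdvd.trans (card_subgroup_dvd_card M)))
  haveI := hsimp
  have hSM : (S : Subgroup G) ≤ M := by
    have h4 : 4 ∣ Nat.card M := four_dvd_card hOM hO2M hM2
    obtain ⟨T⟩ : Nonempty (Sylow 2 M) := inferInstance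
    have hT : 4 ∣ Nat.card (T : Subgroup M) := T.pow_dvd_card_of_pow_dvd_card (n := 2) h4
    obtain ⟨P, hP⟩ := (T.isPGroup'.map M.subtype).exists_le_sylow
    have hPc : Nat.card (P : Subgroup G) = 4 := by rw [Sylow.card_eq_multiplicity, ← S.card_eq_multiplicity, hS.card_four]
    have hPM : (P : Subgroup G) ≤ M := by
      refine (eq_of_le_of_card_ge hP ?_) ▸ map_subtype_le _
      rw [hPc, card_map_of_injective M.subtype_injective]
      exact Nat.le_of_dvd Nat.card_pos hT
    obtain ⟨g, hgS⟩ := MulAction.exists_smul_eq G P S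
    intro x hx
    rw [← hgS, Sylow.coe_subgroup_smul, mem_pointwise_smul_iff_inv_smul_mem] at hx
    have := hMn.conj_mem _ (hPM hx) g
    simpa [mul_assoc] using this
  refine ⟨M, hMn, hsimp, hna, hSM, ?_⟩
  by_contra hC
  haveI : (centralizer (M : Set G)).Normal := inferInstance
  have h2 : 2 ∣ Nat.card (centralizer (M : Set G)) := even_of_normal_ne_bot hO inferInstance hC
  obtain ⟨x, hx⟩ := exists_prime_orderOf_dvd_card' 2 h2
  obtain ⟨P, hP⟩ := (IsPGroup.of_card (n := 1) (by rw [Nat.card_zpowers, ← Subgroup.orderOf_coe x] at *; rw [hx]; rfl) :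
    IsPGroup 2 (zpowers (x : G))).exists_le_sylow
  obtain ⟨g, hgS⟩ := MulAction.exists_smul_eq G S P
  have hxM : (x : G) ∈ M := by
    have h := hP (mem_zpowers _)
    rw [← hgS, Sylow.coe_subgroup_smul, mem_pointwise_smul_iff_inv_smul_mem] at h
    have := hMn.conj_mem _ (hSM h) g
    simpa [mul_assoc] using this
  have hxZ : (⟨x, hxM⟩ : M) ∈ center M := mem_center_iff.2 fun y => Subtype.ext (x.2 y y.2)
  rcases (inferInstance : (center M).Normal).eq_bot_or_eq_top with h | h
  · rw [h, mem_bot] at hxZ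
    have : (x : G) = 1 := congrArg Subtype.val hxZ
    rw [← Subgroup.orderOf_coe, this, orderOf_one] at hx
    omega
  · exact hna ⟨⟨fun a b => mem_center_iff.1 (h ▸ mem_top b : b ∈ center M) a⟩⟩

end Cfsg.Agent.AbelianSylowTwo
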